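import Mathlib
import Cfsg.Agent.Lib.Helper31.CTI.Defs

/-!
# Project CTI (S4064, owner helper31): module [BLOCKS] in `_of` form (helper78)

`exists_niceBlock_of_h78`: every nontrivial Sylow subgroup lies in a nice block, given the
conclusions of the modules [CN], [BLK-CC], [BLK-HALL] as hypotheses.
-/

set_option autoImplicit false

namespace Cfsg.Agent.Lib.Helper31.CTI

open Cfsg

variable {G : Type*} [Group G]

/-- [BLOCKS] in `_of` form: the hypotheses are the statements of [CN], [BLK-CC], [BLK-HALL]. -/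
theorem exists_niceBlock_of_h78 [Finite G] (hG : IsCTI G) (hCN : Cfsg.IsCNGroup G)
    (hblk : ∀ (p : ℕ) [Fact p.Prime] (P : Sylow p G) (z : G), z ∈ (P : Subgroup G) →
      (∀ y ∈ (P : Subgroup G), y * z = z * y) → z ≠ 1 →
      ∀ m ∈ Subgroup.centralizer ({z} : Set G), m ≠ 1 →
        Subgroup.centralizer ({m} : Set G) ≤ Subgroup.centralizer ({z} : Set G))
    (hhall : ∀ M : Subgroup G,
      (∀ m ∈ M, m ≠ 1 → Subgroup.centralizer ({m} : Set G) ≤ M) → (Nat.card M).Coprime M.index)
    (p : ℕ) [Fact p.Prime] (P : Sylow p G)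
    (hP : (P : Subgroup G) ≠ ⊥) : ∃ M : Subgroup G, IsNiceBlock M ∧ (P : Subgroup G) ≤ M := by
  classical
  -- a nonidentity central element of `P`
  have hnt : Nontrivial (P : Subgroup G) := (Subgroup.nontrivial_iff_ne_bot _).mpr hP
  have hpg : IsPGroup p (P : Subgroup G) := P.isPGroup'
  have hcen : Nontrivial (Subgroup.center (P : Subgroup G)) := hpg.center_nontrivial
  obtain ⟨⟨⟨z, hzP⟩, hzcen⟩, hz'⟩ := exists_ne (1 : Subgroup.center (P : Subgroup G))
  have hz1 : z ≠ 1 := by
    intro h
    apply hz'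
    subst h
    rfl
  have hzc : ∀ y ∈ (P : Subgroup G), y * z = z * y := by
    intro y hy
    have h1 := Subgroup.mem_center_iff.mp hzcen ⟨y, hy⟩
    have h2 := Subtype.ext_iff.mp h1
    simpa using h2
  refine ⟨Subgroup.centralizer ({z} : Set G), ⟨hCN z hz1, ?_, hblk p P z hzP hzc hz1, ?_, ?_⟩, ?_⟩
  · intro hbot
    have : z ∈ Subgroup.centralizer ({z} : Set G) := by
      rw [Subgroup.mem_centralizer_iff]
      intro h hh
      rw [Set.mem_singleton_iff] at hh
      rw [hh]
    rw [hbot, Subgroup.mem_bot] at this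
    exact hz1 this
  · exact hG z
  · exact hhall _ (hblk p P z hzP hzc hz1)
  · intro y hy
    rw [Subgroup.mem_centralizer_iff]
    intro h hh
    rw [Set.mem_singleton_iff] at hh
    rw [hh]
    exact (hzc y hy).symm

end Cfsg.Agent.Lib.Helper31.CTI
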