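import Mathlib
import Cfsg.Agent.Lib.Helper31.CTI.Defs
import Cfsg.Agent.Lib.Helper78.CTI.BlocksOf
import Cfsg.Agent.Lib.Helper71.CTI.Center
import Cfsg.Agent.Lib.Helper55.CTI.BlkCC
import Cfsg.Agent.Lib.Helper89.CTI.BlkHall

/-!
# Project CTI (S4064, owner helper31): module [BLOCKS] (helper78), exact statement

Glue of `exists_niceBlock_of_h78` with [CN] (helper71), [BLK-CC] (helper55), [BLK-HALL] (helper89).
-/

set_option autoImplicit false

namespace Cfsg.Agent.Lib.Helper31.CTI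

open Cfsg

variable {G : Type*} [Group G]

/-- [BLOCKS] Every nontrivial Sylow subgroup lies in a nice block. (CN + BLK-CC + BLK-HALL) -/
theorem exists_niceBlock [Finite G] (hG : IsCTI G) (p : ℕ) [Fact p.Prime] (P : Sylow p G)
    (hP : (P : Subgroup G) ≠ ⊥) : ∃ M : Subgroup G, IsNiceBlock M ∧ (P : Subgroup G) ≤ M :=
  exists_niceBlock_of_h78 hG (isCNGroup_of_cti hG)
    (fun p _ P z h1 h2 h3 => block_cc hG p P z h1 h2 h3)
    (fun M hM => hall_of_cc M hM) p P hP

end Cfsg.Agent.Lib.Helper31.CTI
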