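import Mathlib
import Cfsg.Agent.Lib.Helper31.CTI.Defs
import Cfsg.Agent.S1230
import Cfsg.Agent.Lib.Helper57.PSLMap

/-!
# Project CTI (S4064, owner helper31): module [E-AB] (helper78)

`cdata_psl_of_elementary`: in the configuration `CData M N`, if `M` has exponent two then
`G ≃* PSL₂(2ⁿ)`, `n ≥ 2` (landed S1230 + uniqueness of finite fields + `Helper57.pslMapEquiv`).
No other CTI module is needed.
-/

set_option autoImplicit false
set_option linter.style.haveILetI false

namespace Cfsg.Agent.Lib.Helper31.CTI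

open Cfsg

variable {G : Type*} [Group G]

variable {M N : Subgroup G}

/-- a group of exponent two is abelian (subgroup form) -/
theorem comm_of_sq_eq_one_h78 (hM : ∀ m ∈ M, m ^ 2 = 1) :
    ∀ a ∈ M, ∀ b ∈ M, a * b = b * a := by
  intro a ha b hb
  have h1 := hM a ha
  have h2 := hM b hb
  have h3 := hM (a * b) (M.mul_mem ha hb)
  have ha' : a⁻¹ = a := by
    rw [inv_eq_iff_mul_eq_one, ← sq]; exact h1
  have hb' : b⁻¹ = b := by
    rw [inv_eq_iff_mul_eq_one, ← sq]; exact h2
  have h4 : (a * b)⁻¹ = a * b := by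
    rw [inv_eq_iff_mul_eq_one, ← sq]; exact h3
  rw [mul_inv_rev, ha', hb'] at h4
  exact h4.symm

/-- in `CData M N` the block `M` has at least three elements -/
theorem cdata_three_le_card_h78 [Finite G] (h : CData M N) : 3 ≤ Nat.card M := by
  classical
  have hpos : 0 < Nat.card M := Nat.card_pos
  have h1 : Nat.card M ≠ 1 := fun h1 => h.nice.ne_bot (Subgroup.card_eq_one.mp h1)
  have h2 : Nat.card M ≠ 2 := by
    intro h2
    obtain ⟨t, ht1, htu⟩ := (Nat.card_eq_two_iff' (1 : M)).mp h2
    apply h.lt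
    apply le_antisymm
    · rw [h.hN]; exact Subgroup.le_normalizer
    · intro n hn
      rw [h.hN, Subgroup.mem_normalizer_iff] at hn
      have h3 : n * (t : G) * n⁻¹ ∈ M := (hn (t : G)).mp t.2
      have h4 : (⟨n * (t : G) * n⁻¹, h3⟩ : M) ≠ 1 := by
        intro h5
        apply ht1
        have h6 : n * (t : G) * n⁻¹ = 1 := congrArg Subtype.val h5
        have h7 : (t : G) = 1 := by
          have : (t : G) = n⁻¹ * (n * (t : G) * n⁻¹) * n := by group
          rw [this, h6]; group
        exact Subtype.ext h7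
      have h5 := htu _ h4
      have h6 : n * (t : G) * n⁻¹ = (t : G) := congrArg Subtype.val h5
      have ht1' : (t : G) ≠ 1 := fun h7 => ht1 (Subtype.ext h7)
      apply h.nice.cc (t : G) t.2 ht1'
      rw [Subgroup.mem_centralizer_iff]
      intro x hx
      rw [Set.mem_singleton_iff] at hx
      rw [hx]
      calc (t : G) * n = (n * (t : G) * n⁻¹) * n := by rw [h6]
        _ = n * (t : G) := by group
  omega

/-- [E-AB] (landed S1230 + Helper57.pslMapEquiv + uniqueness of finite fields.) -/
theorem cdata_psl_of_elementary [Finite G] (h : CData M N) (hM : ∀ m ∈ M, m ^ 2 = 1) :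
    ∃ n : ℕ, 2 ≤ n ∧
      Nonempty (G ≃* Matrix.ProjectiveSpecialLinearGroup (Fin 2) (GaloisField 2 n)) := by
  classical
  have hcomm := comm_of_sq_eq_one_h78 hM
  have h3 := cdata_three_le_card_h78 h
  -- `M` is a Sylow 2-subgroup
  have hfact : Fact (Nat.Prime 2) := ⟨Nat.prime_two⟩
  have h2 : IsPGroup 2 M := by
    intro m
    refine ⟨1, ?_⟩
    apply Subtype.ext
    have := hM (m : G) m.2
    simpa using this
  have hidx : ¬ 2 ∣ M.index := by
    intro hdvd
    have hev : 2 ∣ Nat.card M := even_iff_two_dvd.mp h.even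
    have := Nat.dvd_gcd hev hdvd
    rw [Nat.Coprime.gcd_eq_one h.nice.hall] at this
    omega
  set T : Sylow 2 G := h2.toSylow hidx with hT
  have hTM : (T : Subgroup G) = M := IsPGroup.toSylow_coe h2 hidx
  -- not cyclic
  have hnc : ¬ IsCyclic (T : Subgroup G) := by
    rw [hTM]
    intro hcyc
    obtain ⟨g, hg⟩ := IsCyclic.exists_ofOrder_eq_natCard (α := M)
    have hg2 : g ^ 2 = 1 := by
      apply Subtype.ext
      have := hM (g : G) g.2
      simpa using this
    have := orderOf_le_of_pow_eq_one (by norm_num : 0 < 2) hg2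
    omega
  -- not normal
  have hnn : ¬ (T : Subgroup G).Normal := by
    rw [hTM]
    intro hn
    apply h.ne_top
    rw [h.hN]
    exact Subgroup.normalizer_eq_top M
  -- centralizers of involutions
  have hC : ∀ t : G, orderOf t = 2 → IsMulCommutative (Subgroup.centralizer ({t} : Set G)) ∧
      ∀ c ∈ Subgroup.centralizer ({t} : Set G), c ^ 2 = 1 := by
    intro t ht
    have ht1 : t ≠ 1 := by
      intro h1
      rw [h1, orderOf_one] at ht
      omega
    have htp : IsPGroup 2 (Subgroup.zpowers t) := by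
      apply IsPGroup.of_card (n := 1)
      rw [Nat.card_zpowers, ht, pow_one]
    obtain ⟨Q, hQ⟩ := htp.exists_le_sylow
    obtain ⟨g, hg⟩ := MulAction.exists_smul_eq G T Q
    have htQ : t ∈ (Q : Subgroup G) := hQ (Subgroup.mem_zpowers t)
    rw [← hg, Sylow.coe_subgroup_smul, hTM] at htQ
    obtain ⟨x, hxM, hxt⟩ := (Subgroup.mem_smul_pointwise_iff_exists _ _ _).mp htQ
    rw [MulAut.smul_def, MulAut.conj_apply] at hxt
    have hx1 : x ≠ 1 := by
      intro h1
      apply ht1
      rw [← hxt, h1]
      group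
    have hcx := h.nice.cc x hxM hx1
    -- conjugating the centralizer of `t` into `M`
    have hmem : ∀ c ∈ Subgroup.centralizer ({t} : Set G), g⁻¹ * c * g ∈ M := by
      intro c hc
      apply hcx
      rw [Subgroup.mem_centralizer_iff] at hc ⊢
      intro y hy
      rw [Set.mem_singleton_iff] at hy
      have h5 := hc t rfl
      rw [hy]
      have hx : x = g⁻¹ * t * g := by rw [← hxt]; group
      rw [hx]
      calc g⁻¹ * t * g * (g⁻¹ * c * g) = g⁻¹ * (t * c) * g := by group
        _ = g⁻¹ * (c * t) * g := by rw [h5]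
        _ = g⁻¹ * c * g * (g⁻¹ * t * g) := by group
    constructor
    · refine ⟨⟨fun a b => ?_⟩⟩
      apply Subtype.ext
      have h6 := hcomm _ (hmem a a.2) _ (hmem b b.2)
      show (a : G) * (b : G) = (b : G) * (a : G)
      have h7 : g⁻¹ * ((a : G) * (b : G)) * g = g⁻¹ * ((b : G) * (a : G)) * g := by
        calc g⁻¹ * ((a : G) * (b : G)) * g = (g⁻¹ * (a : G) * g) * (g⁻¹ * (b : G) * g) := by group
          _ = (g⁻¹ * (b : G) * g) * (g⁻¹ * (a : G) * g) := h6
          _ = g⁻¹ * ((b : G) * (a : G)) * g := by group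
      exact mul_left_cancel (mul_right_cancel h7)
    · intro c hc
      have h6 := hM _ (hmem c hc)
      have h7 : (g⁻¹ * c * g) ^ 2 = g⁻¹ * c ^ 2 * g := by
        rw [sq, sq]; group
      rw [h7] at h6
      have : c ^ 2 = g * (g⁻¹ * c ^ 2 * g) * g⁻¹ := by group
      rw [this, h6]; group
  obtain ⟨F, _, _, hF, ⟨e⟩⟩ := Cfsg.Agent.S1230.result T hnc hnn hC
  -- the order of `M`
  obtain ⟨n, hn⟩ := IsPGroup.iff_card.mp h2
  have hn2 : 2 ≤ n := by
    by_contra hlt
    push Not at hlt
    interval_cases n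
    · rw [pow_zero] at hn; omega
    · rw [pow_one] at hn; omega
  refine ⟨n, hn2, ?_⟩
  let _ : Fintype (GaloisField 2 n) := Fintype.ofFinite _
  have hcard : Fintype.card F = Fintype.card (GaloisField 2 n) := by
    rw [hF, ← Nat.card_eq_fintype_card, GaloisField.card 2 n (by omega)]
    show Nat.card (T : Subgroup G) = 2 ^ n
    rw [hTM, hn]
  exact ⟨e.trans (Helper57.pslMapEquiv (FiniteField.ringEquivOfCardEq hcard))⟩

end Cfsg.Agent.Lib.Helper31.CTI
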