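import Mathlib
import Cfsg.Agent.Lib.Helper31.CTI.Defs
import Cfsg.Agent.S0338
import Cfsg.Agent.S0885
import Cfsg.Agent.S1147

/-!
# Project CTI (S4064, owner helper31): module [E-DICH] in `_of` form (helper78)

`cdata_dichotomy_of_h78`: the dichotomy "`M` has exponent two, or `M` is a nonabelian `2`-group with
`|M| = |Ω₁(M)|²`", given the conclusions of [C-ZASS], [C-TRANS], [C-INV], [C-DA] as hypotheses
(landed S0338, S0885, S1147).
-/

set_option autoImplicit false
set_option linter.style.haveILetI false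

namespace Cfsg.Agent.Lib.Helper31.CTI

open Cfsg

variable {G : Type*} [Group G]

variable {M N : Subgroup G}

/-- an involution outside `N` -/
theorem cdata_exists_involution_not_mem_h78 [Finite G] (h : CData M N)
    (hinv : ∀ t : G, t ∈ N → orderOf t = 2 → t ∈ M ∧ ∀ m ∈ M, m * t = t * m) :
    ∃ u : G, orderOf u = 2 ∧ u ∉ N := by
  classical
  have hfact : Fact (Nat.Prime 2) := ⟨Nat.prime_two⟩
  obtain ⟨t0, ht0⟩ := exists_prime_orderOf_dvd_card' (G := M) 2 (even_iff_two_dvd.mp h.even)
  have ht0G : orderOf (t0 : G) = 2 := by rw [Subgroup.orderOf_coe]; exact ht0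
  have ht01 : (t0 : G) ≠ 1 := by
    intro h1
    rw [h1, orderOf_one] at ht0G
    omega
  obtain ⟨g, hg⟩ : ∃ g : G, g ∉ N := by
    by_contra hcon
    push Not at hcon
    exact h.ne_top (eq_top_iff.mpr fun x _ => hcon x)
  refine ⟨g * (t0 : G) * g⁻¹, ?_, ?_⟩
  · have := (MulAut.conj g).orderOf_eq (t0 : G)
    rw [MulAut.conj_apply] at this
    rw [this, ht0G]
  · intro hu
    have hord : orderOf (g * (t0 : G) * g⁻¹) = 2 := by
      have := (MulAut.conj g).orderOf_eq (t0 : G)
      rw [MulAut.conj_apply] at this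
      rw [this, ht0G]
    have huM := (hinv _ hu hord).1
    have hgN : g ∉ Subgroup.normalizer (M : Set G) := by rw [← h.hN]; exact hg
    exact ht01 (h.nice.ti g hgN (t0 : G) t0.2 huM)

/-- [E-DICH] in `_of` form: hypotheses = statements of [C-ZASS], [C-TRANS], [C-INV], [C-DA]. -/
theorem cdata_dichotomy_of_h78 [Finite G] (h : CData M N)
    (hZ : Cfsg.IsZassenhausGroup G (G ⧸ N))
    (hreg : ∀ x y : G ⧸ N, x ≠ ((1 : G) : G ⧸ N) → y ≠ ((1 : G) : G ⧸ N) →
      ∃! m : M, (m : G) • x = y)
    (hinv : ∀ t : G, t ∈ N → orderOf t = 2 → t ∈ M ∧ ∀ m ∈ M, m * t = t * m)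
    (hD : ∀ u : G, orderOf u = 2 → u ∉ N →
      dSub N u ⊓ M = ⊥ ∧ Nat.card (dSub N u) * Nat.card M = Nat.card N ∧
        Nat.card {t : G // t ∈ M ∧ t ^ 2 = 1} = Nat.card (dSub N u) + 1) :
    (∀ m ∈ M, m ^ 2 = 1) ∨
      (IsPGroup 2 M ∧ (∃ a ∈ M, ∃ b ∈ M, a * b ≠ b * a) ∧
        Nat.card M = (Nat.card {t : G // t ∈ M ∧ t ^ 2 = 1}) ^ 2) := by
  classical
  let _ : Fintype (G ⧸ N) := Fintype.ofFinite _
  have hfact : Fact (Nat.Prime 2) := ⟨Nat.prime_two⟩
  obtain ⟨u, hu2, huN⟩ := cdata_exists_involution_not_mem_h78 h hinv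
  obtain ⟨hD1, hD2, hD3⟩ := hD u hu2 huN
  set α : G ⧸ N := ((1 : G) : G ⧸ N) with hα
  set β : G ⧸ N := ((u : G) : G ⧸ N) with hβ
  have hβα : β ≠ α := by
    intro hcon
    apply huN
    have := QuotientGroup.eq.mp hcon.symm
    simpa using this
  have hab : α ≠ β := fun hcon => hβα hcon.symm
  have hβsmul : β = u • α := by
    rw [hα, hβ]
    rw [MulAction.Quotient.smul_mk, smul_eq_mul, mul_one]
  have hstα : MulAction.stabilizer G α = N := MulAction.stabilizer_quotient N
  have hstβ : MulAction.stabilizer G β = N.map (MulAut.conj u).toMonoidHom := by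
    rw [hβsmul, MulAction.stabilizer_smul_eq_stabilizer_map_conj, hstα]
  have hst : MulAction.stabilizer G α ⊓ MulAction.stabilizer G β = dSub N u := by
    rw [hstα, hstβ]; rfl
  have hMN : M ≤ N := by rw [h.hN]; exact Subgroup.le_normalizer
  -- nonidentity elements of `M` fix only `α`
  have hHfix : ∀ m ∈ M, m ≠ 1 → ∀ c : G ⧸ N, m • c = c → c = α := by
    intro m hm hm1 c hc
    by_contra hcα
    obtain ⟨m', -, hm'⟩ := hreg c c hcα hcα
    have h1 := hm' ⟨m, hm⟩ hc
    have h2 := hm' 1 (by simp)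
    apply hm1
    have := h1.trans h2.symm
    exact congrArg Subtype.val this
  -- the cardinality of `Ω`
  have hcard : Nat.card M + 1 = Fintype.card (G ⧸ N) := by
    have hmβ : ∀ m : M, (m : G) • β ≠ α := by
      intro m hcon
      apply hβα
      have hmα : (m : G)⁻¹ • α = α := by
        have : (m : G)⁻¹ ∈ MulAction.stabilizer G α := by
          rw [hstα]; exact N.inv_mem (hMN m.2)
        exact this
      calc β = (m : G)⁻¹ • ((m : G) • β) := by rw [inv_smul_smul]
        _ = α := by rw [hcon, hmα]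
    let f : M → {x : G ⧸ N // x ≠ α} := fun m => ⟨(m : G) • β, hmβ m⟩
    have hf : Function.Bijective f := by
      constructor
      · intro m1 m2 h12
        have h12' : (m1 : G) • β = (m2 : G) • β := congrArg Subtype.val h12
        obtain ⟨m', -, hm'⟩ := hreg β ((m2 : G) • β) hβα (hmβ m2)
        exact (hm' m1 h12').trans (hm' m2 rfl).symm
      · rintro ⟨y, hy⟩
        obtain ⟨m', hm'1, -⟩ := hreg β y hβα hy
        exact ⟨m', Subtype.ext hm'1⟩
    have h1 : Nat.card M = Nat.card {x : G ⧸ N // x ≠ α} := Nat.card_congr (Equiv.ofBijective f hf)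
    have h2 : Nat.card {x : G ⧸ N // x ≠ α} = Fintype.card (G ⧸ N) - 1 := by
      rw [Nat.card_eq_fintype_card, Fintype.card_subtype_compl, Fintype.card_subtype_eq]
    have h3 : 0 < Fintype.card (G ⧸ N) := Fintype.card_pos_iff.mpr ⟨α⟩
    omega
  -- `|D|` is odd
  have hDodd : Odd (Nat.card (dSub N u)) := by
    have h1 : Nat.card N ∣ Nat.card G := Subgroup.card_subgroup_dvd_card N
    have h2 : Nat.card M * M.index = Nat.card G := M.card_mul_index
    rw [← hD2, ← h2, mul_comm (Nat.card (dSub N u))] at h1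
    have h3 : Nat.card (dSub N u) ∣ M.index :=
      Nat.dvd_of_mul_dvd_mul_left Nat.card_pos h1
    have h4 : ¬ 2 ∣ M.index := by
      intro hdvd
      have hev : 2 ∣ Nat.card M := even_iff_two_dvd.mp h.even
      have := Nat.dvd_gcd hev hdvd
      rw [Nat.Coprime.gcd_eq_one h.nice.hall] at this
      omega
    have h5 : Odd M.index := by
      rw [← Nat.not_even_iff_odd, even_iff_two_dvd]; exact h4
    exact Odd.of_dvd_nat h5 h3
  have hHa : M ≤ MulAction.stabilizer G α := by rw [hstα]; exact hMN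
  have he : Nat.card ↥(MulAction.stabilizer G α ⊓ MulAction.stabilizer G β : Subgroup G) =
      Nat.card (dSub N u) := by rw [hst]
  rcases Cfsg.Agent.S0885.result hZ hab (Nat.card M) (Nat.card (dSub N u)) hcard.symm he hDodd M hHa
    hcard hHfix with hle | ⟨h2M, ⟨a, b, hab'⟩, -⟩
  · -- `M` has exponent two
    left
    -- the subgroup of elements of square one
    have hcen : ∀ t ∈ M, t ^ 2 = 1 → ∀ m ∈ M, m * t = t * m := by
      intro t ht ht2 m hm
      by_cases ht1 : t = 1
      · rw [ht1]; simp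
      · exact (hinv t (hMN ht) (orderOf_eq_prime ht2 ht1)).2 m hm
    let E : Subgroup G :=
      { carrier := {t | t ∈ M ∧ t ^ 2 = 1}
        one_mem' := ⟨M.one_mem, one_pow 2⟩
        mul_mem' := by
          rintro a b ⟨ha, ha2⟩ ⟨hb, hb2⟩
          refine ⟨M.mul_mem ha hb, ?_⟩
          have hc : Commute a b := hcen b hb hb2 a ha
          rw [hc.mul_pow, ha2, hb2, one_mul]
        inv_mem' := by
          rintro a ⟨ha, ha2⟩
          exact ⟨M.inv_mem ha, by rw [inv_pow, ha2, inv_one]⟩ }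
    have hEM : E ≤ M := fun t ht => ht.1
    have hEcard : Nat.card E = Nat.card (dSub N u) + 1 := by
      rw [← hD3]
      rfl
    have hdvd : Nat.card E ∣ Nat.card M := Subgroup.card_dvd_of_le hEM
    obtain ⟨k, hk⟩ := hdvd
    have hMpos : 0 < Nat.card M := Nat.card_pos
    have hk1 : k = 1 := by
      rcases Nat.lt_or_ge k 2 with hk2 | hk2
      · interval_cases k
        · omega
        · rfl
      · exfalso
        have : 2 * Nat.card E ≤ Nat.card M := by
          rw [hk, mul_comm]; exact Nat.mul_le_mul_left _ hk2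
        omega
    rw [hk1, mul_one] at hk
    have hEeq : E = M := Subgroup.eq_of_le_of_card_ge hEM hk.le
    intro m hm
    rw [← hEeq] at hm
    exact hm.2
  · -- `M` is a nonabelian `2`-group
    right
    have hodd : Odd (Fintype.card (G ⧸ N)) := by
      rw [← hcard]
      exact Even.add_one h.even
    haveI : IsSimpleGroup G := Cfsg.Agent.S0338.result hZ hodd
    have hUn : ∀ x ∈ MulAction.stabilizer G α, ∀ m ∈ M, x * m * x⁻¹ ∈ M := by
      intro x hx m hm
      rw [hstα, h.hN, Subgroup.mem_normalizer_iff] at hx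
      exact (hx m).mp hm
    have hUna : ∃ a ∈ M, ∃ b ∈ M, a * b ≠ b * a := by
      refine ⟨a, a.2, b, b.2, ?_⟩
      intro hcon
      apply hab'
      exact Subtype.ext hcon
    obtain ⟨n, -, -, hn1, -, hn2, -⟩ :=
      Cfsg.Agent.S1147.result hZ hab M hHa hUn hreg h2M hUna
    refine ⟨h2M, hUna, ?_⟩
    rw [hst] at hn2
    rw [hD3, hn2]
    rw [Nat.card_eq_fintype_card, ← hcard] at hn1
    have hpos : 1 ≤ 2 ^ n := Nat.one_le_two_pow
    have h5 : 2 ^ n - 1 + 1 = 2 ^ n := by omega
    rw [h5, ← pow_mul, mul_comm n 2]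
    omega

end Cfsg.Agent.Lib.Helper31.CTI
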