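import Mathlib
import Cfsg.Agent.Lib.Helper31.CTI.Defs
import Cfsg.Agent.Lib.Helper78.CTI.EDichOf
import Cfsg.Agent.Lib.Helper72.CTI.Zass
import Cfsg.Agent.Lib.Helper72.CTI.Trans
import Cfsg.Agent.Lib.Helper62.CTI.CInv
import Cfsg.Agent.Lib.Helper62.CTI.CDA

/-!
# Project CTI (S4064, owner helper31): module [E-DICH] (helper78), exact statement

Glue of `cdata_dichotomy_of_h78` with [C-ZASS], [C-TRANS] (helper72), [C-INV], [C-DA] (helper62).
-/

set_option autoImplicit false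

namespace Cfsg.Agent.Lib.Helper31.CTI

open Cfsg

variable {G : Type*} [Group G]

variable {M N : Subgroup G}

/-- [E-DICH] (C-ZASS, C-TRANS, C-DA + landed S0338, S0885, S1147.) -/
theorem cdata_dichotomy [Finite G] (h : CData M N) :
    (∀ m ∈ M, m ^ 2 = 1) ∨
      (IsPGroup 2 M ∧ (∃ a ∈ M, ∃ b ∈ M, a * b ≠ b * a) ∧
        Nat.card M = (Nat.card {t : G // t ∈ M ∧ t ^ 2 = 1}) ^ 2) :=
  cdata_dichotomy_of_h78 h (cdata_zassenhaus h) (fun x y hx hy => cdata_M_regular h x y hx hy)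
    (fun _ htN ht => cdata_involution h htN ht) (fun _ hu huN => cdata_dSub h hu huN)

end Cfsg.Agent.Lib.Helper31.CTI
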