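import Mathlib
import Cfsg.Agent.Lib.Helper31.CTI.Defs
import Cfsg.Agent.Lib.Helper78.CTI.Blocks
import Cfsg.Agent.Lib.Helper89.CTI.ASylOf
import Cfsg.Agent.Lib.Helper49.CTI.FitCaseOf
import Cfsg.Agent.S1474
import Cfsg.Agent.S0040

/-!
# Project CTI (S4064, owner helper31): module [FITCASE] (helper78), exact statement

Assembly of Part 2: helper49's `CTIAux.fitting_case_of` (A-NILSTRUCT, A-Q8, SUB, EQUIV), helper89's
`exists_normal_sylow_of` ([A-SYL] over [BLOCKS]), and [A-COMPL] (landed S1474 + S0040 + [CN];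
own copy `exists_nilpotent_frobenius_complement_h78` of the 5-line proof of helper49/helper81, so that
this file does not depend on which of their two equally named copies survives).
-/

set_option autoImplicit false

namespace Cfsg.Agent.Lib.Helper31.CTI

open Cfsg

variable {G : Type*} [Group G]

/-- [A-COMPL], own copy (proof as in helper49's / helper81's `ACompl.lean`). -/
theorem exists_nilpotent_frobenius_complement_h78 [Finite G] (hG : IsCTI G)
    (hnn : ¬ Group.IsNilpotent G) (p : ℕ) [Fact p.Prime] (P : Sylow p G)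
    (hP1 : (P : Subgroup G) ≠ ⊥) (hPn : (P : Subgroup G).Normal) :
    ∃ E : Subgroup G, Cfsg.IsFrobeniusComplement E ∧ Group.IsNilpotent E ∧
      ∀ (q : ℕ) [Fact q.Prime] (Q : Sylow q E),
        IsCyclic Q ∨ ∃ n : ℕ, Nonempty (Q ≃* QuaternionGroup (2 ^ n)) := by
  obtain ⟨hF1, _, ⟨E, hc, hEfrob, hfpf⟩, hquot⟩ :=
    Cfsg.Agent.S1474.result (isCNGroup_of_cti hG) hnn p P hP1 hPn
  refine ⟨E, hEfrob, ?_, fun q _ Q => Cfsg.Agent.S0040.result (Cfsg.fittingHall G) E hc hF1 hfpf q Q⟩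
  have e : G ⧸ Cfsg.fittingHall G ≃* E := hc.symm.QuotientMulEquiv
  exact (Group.isNilpotent_congr e).mp hquot

/-- [A-SYL], own glue (helper89's `_of` form over [BLOCKS]). -/
theorem exists_normal_sylow_h78 [Finite G] (hG : IsCTI G) (K : Subgroup G) (hKn : K.Normal)
    (hKnil : Group.IsNilpotent K) (hK : K ≠ ⊥) :
    ∃ (p : ℕ) (_ : Fact p.Prime) (P : Sylow p G), (P : Subgroup G) ≠ ⊥ ∧ (P : Subgroup G).Normal :=
  Cfsg.Agent.Lib.Helper89.CTI.exists_normal_sylow_of
    (fun p _ P hP => exists_niceBlock hG p P hP) K hKn hKnil hK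

/-- [FITCASE] assembly of Part 2 (A-SYL, A-COMPL, A-NILSTRUCT, A-Q8, SUB, EQUIV). -/
theorem fitting_case [Finite G] (hG : IsCTI G) (hnn : ¬ Group.IsNilpotent G) (K : Subgroup G)
    (hKn : K.Normal) (hKnil : Group.IsNilpotent K) (hK : K ≠ ⊥) :
    ∃ H : Subgroup G, Cfsg.IsFrobeniusComplement H ∧
      (IsCyclic H ∨ ∃ m : ℕ, Odd m ∧
        Nonempty (H ≃* Multiplicative (ZMod m) × QuaternionGroup 2)) :=
  Cfsg.Agent.Lib.Helper49.CTIAux.fitting_case_of
    (fun hG K a b c => exists_normal_sylow_h78 hG K a b c)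
    (fun hG hnn p _ P a b => exists_nilpotent_frobenius_complement_h78 hG hnn p P a b)
    hG hnn K hKn hKnil hK

end Cfsg.Agent.Lib.Helper31.CTI
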